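import Mathlib
import Groth.Agent.FlatCrit65.Basic
import Groth.Agent.InjHull18.Basic

set_option autoImplicit false
universe u
open TensorProduct

namespace Groth.Agent.FiniteDescent3

variable {R : Type u} [CommRing R] [IsNoetherianRing R] {S : Type u} [CommRing S] [Algebra R S]
  [Module.Finite R S]

lemma exists_smul_values_mem {E : Type u} [AddCommGroup E] [Module R E] (N : Submodule R E)
    (hess : ∀ x : E, x ≠ 0 → ∃ r : R, r • x ∈ N ∧ r • x ≠ 0) (δ : S →ₗ[R] E) (hδ : δ ≠ 0) :
    ∃ s : S, (∀ t, δ (s * t) ∈ N) ∧ ∃ t, δ (s * t) ≠ 0 := by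
  classical
  let μ : S →ₗ[R] (S →ₗ[R] E) :=
    (LinearMap.llcomp R S S E δ).comp (LinearMap.mul R S)
  have hμ : ∀ s t, μ s t = δ (s * t) := fun s t => rfl
  let x₀ : LinearMap.range μ := ⟨μ 1, 1, rfl⟩
  have hx₀ : x₀ ≠ 0 := fun h => hδ (LinearMap.ext fun t => by
    have := LinearMap.congr_fun (congrArg Subtype.val h) t
    simpa [x₀, hμ] using this)
  obtain ⟨p, hp, -⟩ := exists_le_isAssociatedPrime_of_isNoetherianRing (R := R) x₀ hx₀
  obtain ⟨hp', ⟨⟨_, s, rfl⟩, hs⟩⟩ := isAssociatedPrime_iff.mp hp
  have hps : ∀ r : R, r ∈ p ↔ r • μ s = 0 := fun r => by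
    rw [hs, Submodule.mem_colon_singleton, Submodule.mem_bot, ← Subtype.coe_inj]
    rfl
  obtain ⟨m, g, hg⟩ := Module.Finite.exists_fin (R := R) (M := S)
  have key : ∀ i, ∃ r : R, r ∉ p ∧ r • δ (s * g i) ∈ N := by
    intro i
    set y := δ (s * g i) with hy
    by_cases hann : ∃ r : R, r ∉ p ∧ r • y = 0
    · obtain ⟨r, hr, hr0⟩ := hann
      exact ⟨r, hr, hr0 ▸ zero_mem _⟩
    · push Not at hann
      have hy0 : y ≠ 0 := fun h0 =>
        hann 1 ((Ideal.ne_top_iff_one p).mp hp'.ne_top) (by rw [h0, smul_zero])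
      obtain ⟨r, hrN, hr0⟩ := hess y hy0
      exact ⟨r, fun hr => hr0 (by simpa [hμ] using LinearMap.congr_fun ((hps r).mp hr) (g i)), hrN⟩
  choose r hr hrN using key
  let ρ := ∏ i, r i
  have hρ : ρ ∉ p := fun h => by
    obtain ⟨i, -, hi⟩ := hp'.prod_mem_iff.mp h
    exact hr i hi
  refine ⟨ρ • s, fun t => ?_, ?_⟩
  · have hle : Submodule.span R (Set.range g) ≤ N.comap (μ (ρ • s)) := by
      rw [Submodule.span_le]
      rintro _ ⟨i, rfl⟩
      show δ (ρ • s * g i) ∈ N
      rw [smul_mul_assoc, map_smul, show ρ = (∏ j ∈ Finset.univ.erase i, r j) * r i from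
        (Finset.prod_erase_mul _ _ (Finset.mem_univ i)).symm, mul_smul]
      exact N.smul_mem _ (hrN i)
    exact hle (hg ▸ Submodule.mem_top)
  · by_contra h
    push Not at h
    refine hρ ((hps ρ).mpr (LinearMap.ext fun t => ?_))
    rw [← map_smul, hμ, h t, LinearMap.zero_apply]

theorem injective_of_extends (hinj : Function.Injective (algebraMap R S)) {N : Type u}
    [AddCommGroup N] [Module R N]
    (hext : ∀ (X : Ideal S) (g : X →ₗ[R] N),
      ∃ h : S →ₗ[R] N, ∀ x : X, h x = g x) :
    Module.Injective R N := by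
  obtain ⟨E, _, _, f, hf⟩ := Groth.Agent.InjHull18.exists_hull (R := R) N
  have hf' := (Groth.Agent.InjHull18.isEssentialInj_iff.mp hf.toIsEssentialInj)
  have hsurj : Function.Surjective f := by
    intro e
    obtain ⟨Φ, hΦ⟩ := (Module.Baer.of_injective hf.isInjective).extension_property
      (Algebra.linearMap R S) hinj (LinearMap.toSpanSingleton R E e)
    have hΦ1 : Φ 1 = e := by
      have := LinearMap.congr_fun hΦ 1
      simpa using this
    let X : Ideal S :=
      { carrier := {s | ∀ t, Φ (s * t) ∈ LinearMap.range f}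
        add_mem' := fun {a b} ha hb t => by rw [add_mul, map_add]; exact add_mem (ha t) (hb t)
        zero_mem' := fun t => by rw [zero_mul, map_zero]; exact zero_mem _
        smul_mem' := fun c x hx t => by rw [smul_eq_mul, mul_comm c x, mul_assoc]; exact hx _ }
    let e' := LinearEquiv.ofInjective f hf'.1
    have hX : ∀ x : X, Φ x ∈ LinearMap.range f := fun x => by
      simpa using x.2 1
    obtain ⟨h, hh⟩ := hext X (e'.symm.toLinearMap ∘ₗ
      (Φ ∘ₗ X.subtype.restrictScalars R).codRestrict _ hX)
    have hδ : Φ - f ∘ₗ h = 0 := by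
      by_contra hne
      obtain ⟨s, hs, t, ht⟩ := exists_smul_values_mem (LinearMap.range f) hf'.2 _ hne
      have hsX : s ∈ X := fun t' => by
        have := add_mem (hs t') (LinearMap.mem_range_self f (h (s * t')))
        simpa using this
      apply ht
      have hst : s * t ∈ X := X.mul_mem_right t hsX
      rw [LinearMap.sub_apply, LinearMap.comp_apply, hh ⟨s * t, hst⟩, sub_eq_zero]
      exact (congrArg Subtype.val (e'.apply_symm_apply ⟨Φ (s * t), hX ⟨_, hst⟩⟩)).symm
    exact ⟨h 1, by rw [← hΦ1]; exact (sub_eq_zero.mp (LinearMap.congr_fun hδ 1)).symm⟩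
  let e := LinearEquiv.ofBijective f ⟨hf'.1, hsurj⟩
  exact Groth.Agent.InjHull18.injective_of_retract hf.isInjective e.toLinearMap e.symm.toLinearMap
    (fun x => e.symm_apply_apply x)

/-- Descent of flatness along finite injective maps out of Noetherian rings. -/
theorem flat_of_baseChange (hinj : Function.Injective (algebraMap R S)) (M : Type u)
    [AddCommGroup M] [Module R M] [Module.Flat S (S ⊗[R] M)] : Module.Flat R M := by
  rw [Module.Flat.iff_characterModule_injective]
  refine injective_of_extends hinj fun X g => ?_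
  let i := X.subtype.restrictScalars R
  have hi : Function.Injective (i.lTensor M) :=
    Groth.Agent.FlatCrit65.lTensor_injective_of_flat_baseChange S X.subtype X.injective_subtype
  have hi' : Function.Injective (i.rTensor M) := by
    intro a b hab
    apply (TensorProduct.comm R _ M).injective
    apply hi
    have key : ∀ z, i.lTensor M (TensorProduct.comm R _ M z) =
        TensorProduct.comm R _ M (i.rTensor M z) := by
      intro z
      induction z with
      | zero => simp
      | add a b ha hb => simp [map_add, ha, hb]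
      | tmul x m => simp
    rw [key, key, hab]
  obtain ⟨c, hc⟩ := CharacterModule.dual_surjective_of_injective (i.rTensor M) hi'
    (CharacterModule.uncurry g)
  refine ⟨CharacterModule.curry c, fun x => DFunLike.ext _ _ fun m => ?_⟩
  exact DFunLike.congr_fun hc (x ⊗ₜ m)

end Groth.Agent.FiniteDescent3
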