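import Mathlib
import Groth.Agent.FlatCrit65.Basic

set_option autoImplicit false
universe u
open TensorProduct

namespace Groth.Agent.FiniteDescent3

/-- Flatness over `A` from flatness over two quotients with trivially intersecting kernels. -/
theorem flat_of_two_quotients {A A₁ A₂ : Type u} [CommRing A] [CommRing A₁] [CommRing A₂]
    [Algebra A A₁] [Algebra A A₂] (h₁ : Function.Surjective (algebraMap A A₁))
    (h₂ : Function.Surjective (algebraMap A A₂))
    (hinf : RingHom.ker (algebraMap A A₁) ⊓ RingHom.ker (algebraMap A A₂) = ⊥)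
    (N : Type u) [AddCommGroup N] [Module A N] [Module.Flat A₁ (A₁ ⊗[A] N)]
    [Module.Flat A₂ (A₂ ⊗[A] N)] : Module.Flat A N := by
  rw [Module.Flat.iff_lTensor_injective']
  intro J
  rw [injective_iff_map_eq_zero]
  intro x hx
  let g₁ : J →ₗ[A] A₁ := Algebra.linearMap A A₁ ∘ₗ J.subtype
  let K := LinearMap.ker g₁
  -- the image in `A₁`
  let T : Submodule A₁ A₁ := Submodule.span A₁ (Set.range g₁)
  let g₁' : J →ₗ[A] T := g₁.codRestrict (T.restrictScalars A) fun j => Submodule.subset_span ⟨j, rfl⟩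
  have hg₁' : Function.Surjective g₁' := fun t => by
    obtain ⟨t, ht⟩ := t
    have hle : ∀ t ∈ T, ∃ j, g₁ j = t := fun t ht => by
      induction ht using Submodule.span_induction with
      | mem x hx => exact hx
      | zero => exact ⟨0, map_zero _⟩
      | add a b _ _ ha hb =>
        obtain ⟨i, rfl⟩ := ha; obtain ⟨j, rfl⟩ := hb; exact ⟨i + j, map_add _ _ _⟩
      | smul c a _ ha =>
        obtain ⟨j, rfl⟩ := ha
        obtain ⟨c, rfl⟩ := h₁ c
        exact ⟨c • j, by rw [map_smul, algebraMap_smul]⟩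
    obtain ⟨j, hj⟩ := hle t ht
    exact ⟨j, Subtype.ext hj⟩
  have hT : Function.Injective ((T.subtype.restrictScalars A).lTensor N) :=
    Groth.Agent.FlatCrit65.lTensor_injective_of_flat_baseChange A₁ T.subtype T.injective_subtype
  have h0 : g₁'.lTensor N x = 0 := by
    apply hT
    rw [map_zero, ← LinearMap.lTensor_comp_apply,
      show (T.subtype.restrictScalars A) ∘ₗ g₁' = Algebra.linearMap A A₁ ∘ₗ J.subtype from rfl,
      LinearMap.lTensor_comp_apply, hx, map_zero]
  have hex : Function.Exact K.subtype g₁' := fun j => by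
    constructor
    · exact fun h => ⟨⟨j, (congrArg Subtype.val h :)⟩, rfl⟩
    · rintro ⟨k, rfl⟩; exact Subtype.ext k.2
  obtain ⟨y, rfl⟩ := (lTensor_exact N hex hg₁' x).mp h0
  -- the kernel embeds in `A₂`
  let g₂ : K →ₗ[A] A₂ := Algebra.linearMap A A₂ ∘ₗ J.subtype ∘ₗ K.subtype
  let U : Submodule A₂ A₂ := Submodule.span A₂ (Set.range g₂)
  let g₂' : K →ₗ[A] U := g₂.codRestrict (U.restrictScalars A) fun j => Submodule.subset_span ⟨j, rfl⟩
  have hg₂' : Function.Bijective g₂' := by
    refine ⟨(injective_iff_map_eq_zero _).mpr fun k hk => ?_, fun t => ?_⟩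
    · have hk2 : algebraMap A A₂ ((k : J) : A) = 0 := congrArg Subtype.val hk
      have : ((k : J) : A) ∈ RingHom.ker (algebraMap A A₁) ⊓ RingHom.ker (algebraMap A A₂) :=
        ⟨k.2, hk2⟩
      rw [hinf, Ideal.mem_bot] at this
      exact Subtype.ext (Subtype.ext this)
    · obtain ⟨t, ht⟩ := t
      have hle : ∀ t ∈ U, ∃ j, g₂ j = t := fun t ht => by
        induction ht using Submodule.span_induction with
        | mem x hx => exact hx
        | zero => exact ⟨0, map_zero _⟩
        | add a b _ _ ha hb =>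
          obtain ⟨i, rfl⟩ := ha; obtain ⟨j, rfl⟩ := hb; exact ⟨i + j, map_add _ _ _⟩
        | smul c a _ ha =>
          obtain ⟨j, rfl⟩ := ha
          obtain ⟨c, rfl⟩ := h₂ c
          exact ⟨c • j, by rw [map_smul, algebraMap_smul]⟩
      obtain ⟨j, hj⟩ := hle t ht
      exact ⟨j, Subtype.ext hj⟩
  have hU : Function.Injective ((U.subtype.restrictScalars A).lTensor N) :=
    Groth.Agent.FlatCrit65.lTensor_injective_of_flat_baseChange A₂ U.subtype U.injective_subtype
  have hy : g₂'.lTensor N y = 0 := by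
    apply hU
    rw [map_zero, ← LinearMap.lTensor_comp_apply,
      show (U.subtype.restrictScalars A) ∘ₗ g₂' = (Algebra.linearMap A A₂ ∘ₗ J.subtype) ∘ₗ K.subtype from rfl,
      LinearMap.lTensor_comp_apply, LinearMap.lTensor_comp_apply, hx, map_zero]
  have he : ((LinearEquiv.ofBijective g₂' hg₂').lTensor N) y = 0 := hy
  rw [LinearEquiv.map_eq_zero_iff] at he
  rw [he, map_zero]

end Groth.Agent.FiniteDescent3
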