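import Groth.Agent.FiniteDescent3.Flat
import Groth.Agent.FlatStage64.Main

set_option autoImplicit false
universe u
open TensorProduct

namespace Groth.Agent.FiniteDescent3

/- Descent of flatness along integral injective maps for modules defined over a Noetherian ring. -/
set_option maxHeartbeats 800000 in
theorem flat_of_integral {A₀ R S B₀ M₀ : Type u} [CommRing A₀] [IsNoetherianRing A₀] [CommRing R]
    [CommRing S] [Algebra A₀ R] [Algebra A₀ S] [Algebra R S] [IsScalarTower A₀ R S]
    [Algebra.IsIntegral R S] (hinj : Function.Injective (algebraMap R S))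
    [CommRing B₀] [Algebra A₀ B₀] [Algebra.FiniteType A₀ B₀] [AddCommGroup M₀] [Module A₀ M₀]
    [Module B₀ M₀] [IsScalarTower A₀ B₀ M₀] [Module.Finite B₀ M₀]
    (hS : Module.Flat S (S ⊗[A₀] M₀)) : Module.Flat R (R ⊗[A₀] M₀) := by
  classical
  rcases subsingleton_or_nontrivial R with hR | hR
  · have : Subsingleton (R ⊗[A₀] M₀) := Module.subsingleton R _
    infer_instance
  obtain ⟨C, ⟨T, hT⟩, hflat⟩ := Groth.Agent.FlatStage64.exists_fg_flat (B := B₀) (M := M₀) S hS
  choose p hp hpt using fun t : S => Algebra.IsIntegral.isIntegral (R := R) t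
  let K : Finset R := T.biUnion fun t => (p t).coeffs
  let A₁ := Algebra.adjoin A₀ (K : Set R)
  have : IsNoetherianRing A₁ := isNoetherianRing_of_fg ⟨K, rfl⟩
  let D := Algebra.adjoin A₁ (T : Set S)
  have hint : ∀ t ∈ (T : Set S), IsIntegral A₁ t := by
    intro t ht
    have hl : p t ∈ Polynomial.lifts (algebraMap A₁ R) := by
      rw [Polynomial.lifts_iff_coeff_lifts]
      intro i
      by_cases hi : (p t).coeff i = 0
      · exact ⟨0, by rw [hi, map_zero]⟩
      · exact ⟨⟨_, Algebra.subset_adjoin (Finset.mem_coe.mpr (Finset.mem_biUnion.mpr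
          ⟨t, ht, Polynomial.coeff_mem_coeffs hi⟩))⟩, rfl⟩
    obtain ⟨q, hq, -, hqm⟩ := Polynomial.lifts_and_degree_eq_and_monic hl (hp t)
    refine ⟨q, hqm, ?_⟩
    rw [IsScalarTower.algebraMap_eq A₁ R S, ← Polynomial.eval₂_map, hq]
    exact hpt t
  have : Module.Finite A₁ D :=
    Module.Finite.iff_fg.mpr (fg_adjoin_of_finite T.finite_toSet hint)
  have hDflat : Module.Flat (D.restrictScalars A₀) ((D.restrictScalars A₀) ⊗[A₀] M₀) := hflat _ (by
    rw [← hT, Algebra.adjoin_le_iff]
    exact fun x hx => Algebra.subset_adjoin hx)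
  have hD' : Module.Flat D (D ⊗[A₀] M₀) := hDflat
  have : Module.Flat D (D ⊗[A₁] (A₁ ⊗[A₀] M₀)) := Module.Flat.of_linearEquiv
    (AlgebraTensorModule.cancelBaseChange A₀ A₁ D D M₀)
  have : Module.Flat A₁ (A₁ ⊗[A₀] M₀) := flat_of_baseChange (S := D)
    (fun a b h => Subtype.ext (hinj (congrArg Subtype.val h))) (A₁ ⊗[A₀] M₀)
  exact Module.Flat.of_linearEquiv (AlgebraTensorModule.cancelBaseChange A₀ A₁ R R M₀).symm

end Groth.Agent.FiniteDescent3
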