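import Mathlib
import Groth.Agent.FlatMor68.Pinch
import Groth.Agent.TF3.Basic

set_option autoImplicit false
universe u
open TensorProduct

namespace Groth.Agent.FiniteDescent3

variable (R S : Type u) [CommRing R] [CommRing S] [Algebra R S]

/-- The standard free module on a module. -/
noncomputable abbrev π (P : Type u) [AddCommGroup P] [Module R P] : (P →₀ R) →ₗ[R] P :=
  Finsupp.linearCombination R id

lemma π_surjective (P : Type u) [AddCommGroup P] [Module R P] : Function.Surjective (π R P) :=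
  fun x => ⟨Finsupp.single x 1, by simp⟩

structure Good (P : Type u) [AddCommGroup P] [Module R P] : Prop where
  flat : Module.Flat R P
  proj : Module.Projective S (S ⊗[R] P)

/-- `Ext¹(P, N) = 0` for all good `P`. -/
def L (N : Type u) [AddCommGroup N] [Module R N] : Prop :=
  ∀ (P : Type u) [AddCommGroup P] [Module R P], Good R S P →
    ∀ ψ : LinearMap.ker (π R P) →ₗ[R] N, ∃ h : (P →₀ R) →ₗ[R] N, ∀ k, h k.1 = ψ k

variable {R S}

lemma split_baseChange {P : Type u} [AddCommGroup P] [Module R P] (hP : Good R S P) :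
    Function.Injective ((LinearMap.ker (π R P)).subtype.baseChange S) ∧
    ∃ r : S ⊗[R] (P →₀ R) →ₗ[S] S ⊗[R] LinearMap.ker (π R P),
      r ∘ₗ (LinearMap.ker (π R P)).subtype.baseChange S = LinearMap.id := by
  have := hP.flat
  have := hP.proj
  have hi := @Groth.Agent.FlatMor68.Pinch.lTensor_injective_of_flat_quotient R
    (LinearMap.ker (π R P)) (P →₀ R) P S _ (Submodule.addCommGroup _) _ _ _ _ _ _ _
    (LinearMap.ker (π R P)).subtype (π R P) (Submodule.subtype_injective _) (π_surjective R P)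
    (LinearMap.exact_subtype_ker_map (π R P)) _
  have hi' : Function.Injective ((LinearMap.ker (π R P)).subtype.baseChange S) := hi
  have hex : Function.Exact ((LinearMap.ker (π R P)).subtype.baseChange S) ((π R P).baseChange S) :=
    @lTensor_exact R (LinearMap.ker (π R P)) (P →₀ R) P _ (Submodule.addCommGroup _) _ _ _ _ _
      (LinearMap.ker (π R P)).subtype (π R P) S _ _ (LinearMap.exact_subtype_ker_map (π R P))
      (π_surjective R P)
  obtain ⟨s, hs⟩ := Module.projective_lifting_property ((π R P).baseChange S) LinearMap.id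
    (LinearMap.lTensor_surjective S (π_surjective R P))
  refine ⟨hi', ?_⟩
  let e := LinearEquiv.ofInjective ((LinearMap.ker (π R P)).subtype.baseChange S) hi'
  let T : S ⊗[R] (P →₀ R) →ₗ[S] S ⊗[R] (P →₀ R) := LinearMap.id - s ∘ₗ (π R P).baseChange S
  have hmem : ∀ x, T x ∈
      LinearMap.range ((LinearMap.ker (π R P)).subtype.baseChange S) := fun x => by
    refine (hex _).mp ?_
    have := LinearMap.congr_fun hs ((π R P).baseChange S x)
    simp only [LinearMap.comp_apply, LinearMap.id_apply] at this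
    simp [T, this]
  refine ⟨e.symm.toLinearMap ∘ₗ LinearMap.codRestrict _ _ hmem, LinearMap.ext fun z => ?_⟩
  have h0 : (π R P).baseChange S ((LinearMap.ker (π R P)).subtype.baseChange S z) = 0 :=
    hex.apply_apply_eq_zero z
  apply hi'
  refine (congrArg Subtype.val (e.apply_symm_apply _)).trans ?_
  simp [T, h0]

lemma good_ker {P : Type u} [AddCommGroup P] [Module R P] (hP : Good R S P) :
    Good R S (LinearMap.ker (π R P)) := by
  have := hP.flat
  obtain ⟨-, r, hr⟩ := split_baseChange hP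
  have : Module.Projective S (S ⊗[R] (P →₀ R)) := inferInstance
  exact ⟨@Groth.Agent.FlatMor68.Pinch.flat_of_flat_quotient R (LinearMap.ker (π R P)) (P →₀ R) P _
    (Submodule.addCommGroup _) _ _ _ _ _ _ (π R P) (Submodule.subtype_injective _)
    (π_surjective R P) (LinearMap.exact_subtype_ker_map (π R P)) _ _, Module.Projective.of_split _ r hr⟩

lemma L_of_module (N : Type u) [AddCommGroup N] [Module R N] [Module S N] [IsScalarTower R S N] :
    L R S N := by
  intro P _ _ hP ψ
  obtain ⟨-, r, hr⟩ := split_baseChange hP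
  refine ⟨(ψ.liftBaseChange S ∘ₗ r).restrictScalars R ∘ₗ
    (TensorProduct.mk R S (P →₀ R) 1), fun k => ?_⟩
  have h1 := LinearMap.congr_fun hr ((1 : S) ⊗ₜ[R] k)
  simp only [LinearMap.comp_apply, LinearMap.baseChange_tmul, Submodule.subtype_apply,
    LinearMap.id_apply] at h1
  simp [h1]

lemma lift_of_L {N N' : Type u} [AddCommGroup N] [Module R N] [AddCommGroup N'] [Module R N']
    (q : N →ₗ[R] N') (hq : Function.Surjective q) (hL : L R S (LinearMap.ker q))
    {K : Type u} [AddCommGroup K] [Module R K] (hK : Good R S K) (ψ : K →ₗ[R] N') :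
    ∃ ψ' : K →ₗ[R] N, q ∘ₗ ψ' = ψ := by
  choose g hg using hq
  let G : (K →₀ R) →ₗ[R] N := Finsupp.linearCombination R fun k => g (ψ k)
  have hG : q ∘ₗ G = ψ ∘ₗ π R K := Finsupp.lhom_ext fun k c => by simp [G, π, hg]
  have hmem : ∀ k : LinearMap.ker (π R K), G k ∈ LinearMap.ker q := fun k => by
    rw [LinearMap.mem_ker, ← LinearMap.comp_apply, hG, LinearMap.comp_apply,
      LinearMap.mem_ker.mp k.2, map_zero]
  obtain ⟨h, hh⟩ := hL K hK ((G ∘ₗ (LinearMap.ker (π R K)).subtype).codRestrict _ hmem)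
  let G' := G - (LinearMap.ker q).subtype ∘ₗ h
  have hle : LinearMap.ker (π R K) ≤ LinearMap.ker G' := fun k hk => by
    simp only [G', LinearMap.mem_ker, LinearMap.sub_apply, LinearMap.comp_apply, hh ⟨k, hk⟩]
    exact sub_self _
  refine ⟨(LinearMap.ker (π R K)).liftQ G' hle ∘ₗ
    ((π R K).quotKerEquivOfSurjective (π_surjective R K)).symm.toLinearMap, LinearMap.ext fun x => ?_⟩
  have h3 : ((π R K).quotKerEquivOfSurjective (π_surjective R K)).symm x =
      Submodule.Quotient.mk (Finsupp.single x 1) :=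
    (LinearEquiv.symm_apply_eq _).mpr (by simp [π])
  simp only [LinearMap.comp_apply, LinearEquiv.coe_coe, h3, Submodule.liftQ_apply, G',
    LinearMap.sub_apply, map_sub]
  rw [show q ((LinearMap.ker q).subtype (h (Finsupp.single x 1))) = 0 from
    LinearMap.mem_ker.mp (h (Finsupp.single x 1)).2, sub_zero]
  simp [G, hg]

lemma L_of_ext {B : Type u} [AddCommGroup B] [Module R B] (A : Submodule R B) (hA : L R S A)
    (hQ : L R S (B ⧸ A)) : L R S B := by
  intro P _ _ hP ψ
  obtain ⟨h, hh⟩ := hQ P hP (A.mkQ ∘ₗ ψ)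
  choose g hg using A.mkQ_surjective
  let H : (P →₀ R) →ₗ[R] B := Finsupp.linearCombination R fun x => g (h (Finsupp.single x 1))
  have hH : A.mkQ ∘ₗ H = h := Finsupp.lhom_ext fun x c => by
    have e : Finsupp.single x c = c • Finsupp.single x (1 : R) := by simp
    rw [LinearMap.comp_apply, e, map_smul, map_smul, map_smul]
    simp [H, ← Submodule.mkQ_apply, hg]
  have hmem : ∀ k, (ψ - H ∘ₗ (LinearMap.ker (π R P)).subtype) k ∈ A := fun k => by
    rw [← Submodule.Quotient.mk_eq_zero, ← Submodule.mkQ_apply, LinearMap.sub_apply, map_sub,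
      sub_eq_zero, LinearMap.comp_apply, ← LinearMap.comp_apply A.mkQ H, hH, Submodule.subtype_apply, hh]
    rfl
  obtain ⟨h', hh'⟩ := hA P hP (LinearMap.codRestrict A _ hmem)
  refine ⟨H + A.subtype ∘ₗ h', fun k => ?_⟩
  simp [hh']

lemma exists_splitting [IsNoetherianRing R] [Module.Finite R S]
    (hinj : Function.Injective (algebraMap R S)) (p : Ideal R) [p.IsPrime] :
    ∃ (q : Ideal S) (φ : (S ⧸ q) →ₗ[R] R ⧸ p) (f : R), f ∉ p ∧
      φ (Ideal.Quotient.mk q 1) = Ideal.Quotient.mk p f := by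
  have : Algebra.IsIntegral R S := Algebra.IsIntegral.of_finite R S
  obtain ⟨q, -, hq, hqp⟩ := Ideal.exists_ideal_over_prime_of_isIntegral (S := S) p ⊥
    (by rw [Ideal.comap_bot_of_injective _ hinj]; exact bot_le)
  have hle : ∀ r ∈ p, algebraMap R S r ∈ q := fun r hr => by
    rw [← hqp] at hr; exact hr
  let M := S ⧸ q
  have hM : Module.IsTorsionBySet R M p := by
    intro x a
    obtain ⟨x, rfl⟩ := Ideal.Quotient.mk_surjective x
    show (a : R) • Ideal.Quotient.mk q x = 0
    rw [← Ideal.Quotient.mkₐ_eq_mk R, ← map_smul, Ideal.Quotient.mkₐ_eq_mk,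
      Ideal.Quotient.eq_zero_iff_mem, Algebra.smul_def]
    exact q.mul_mem_right _ (hle _ a.2)
  let : Module (R ⧸ p) M := hM.module
  have : IsScalarTower R (R ⧸ p) M := hM.isScalarTower
  have : Module.IsTorsionFree (R ⧸ p) M := by
    refine ⟨fun c hc => ?_⟩
    rw [isSMulRegular_iff_right_eq_zero_of_smul]
    intro x hx
    obtain ⟨c, rfl⟩ := Ideal.Quotient.mk_surjective c
    obtain ⟨x, rfl⟩ := Ideal.Quotient.mk_surjective x
    change c • Ideal.Quotient.mk q x = 0 at hx
    rw [← Ideal.Quotient.mkₐ_eq_mk R, ← map_smul, Ideal.Quotient.mkₐ_eq_mk,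
      Ideal.Quotient.eq_zero_iff_mem, Algebra.smul_def] at hx
    rcases hq.mem_or_mem hx with h | h
    · exfalso
      refine hc.ne_zero (Ideal.Quotient.eq_zero_iff_mem.mpr ?_)
      rw [← hqp]
      exact h
    · exact Ideal.Quotient.eq_zero_iff_mem.mpr h
  have : Module.Finite (R ⧸ p) M := Module.Finite.of_restrictScalars_finite R _ _
  obtain ⟨n, j, hj⟩ := Groth.Agent.TF3.exists_injective_of_torsionFree (R := R ⧸ p) (M := M)
  have h1 : j (Ideal.Quotient.mk q 1) ≠ 0 := fun h0 => hq.ne_top ((Ideal.eq_top_iff_one q).mpr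
    (Ideal.Quotient.eq_zero_iff_mem.mp (hj (by rw [h0, map_zero]))))
  obtain ⟨i, hi⟩ : ∃ i, j (Ideal.Quotient.mk q 1) i ≠ 0 := Function.ne_iff.mp h1
  obtain ⟨f, hf⟩ := Ideal.Quotient.mk_surjective (j (Ideal.Quotient.mk q 1) i)
  exact ⟨q, ((LinearMap.proj i) ∘ₗ j).restrictScalars R, f,
    fun h => hi (by rw [← hf, Ideal.Quotient.eq_zero_iff_mem.mpr h]), hf.symm⟩

theorem L_all [IsNoetherianRing R] [Module.Finite R S] (hinj : Function.Injective (algebraMap R S)) :
    ∀ (I : Ideal R) (N : Type u) [AddCommGroup N] [Module R N],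
      (∀ a ∈ I, ∀ x : N, a • x = 0) → L R S N := by
  intro I
  induction I using WellFoundedGT.induction with
  | ind I ih =>
  intro N _ _ hN
  by_cases hI : I = ⊤
  · have : Subsingleton N := subsingleton_of_forall_eq 0 fun x => by
      simpa using hN 1 (hI ▸ Submodule.mem_top) x
    exact fun P _ _ _ ψ => ⟨0, fun k => Subsingleton.elim _ _⟩
  have sub : ∀ f ∉ I, ∀ (T : Type u) [AddCommGroup T] [Module R T],
      (∀ a ∈ I, ∀ x : T, a • x = 0) → (∀ x : T, f • x = 0) → L R S T := by
    intro f hf T _ _ hT hfT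
    refine ih (I ⊔ Ideal.span {f}) (left_lt_sup.mpr fun h =>
      hf ((Ideal.span_singleton_le_iff_mem _).mp h)) T fun a ha x => ?_
    obtain ⟨b, hb, c, hc, rfl⟩ := Submodule.mem_sup.mp ha
    obtain ⟨c, rfl⟩ := Ideal.mem_span_singleton'.mp hc
    rw [add_smul, hT b hb, mul_smul, hfT, smul_zero, add_zero]
  have quot : ∀ (f : R), ∀ y : N ⧸ LinearMap.range (LinearMap.lsmul R N f), f • y = 0 := by
    intro f y
    obtain ⟨y, rfl⟩ := Submodule.Quotient.mk_surjective _ y
    rw [← Submodule.Quotient.mk_smul, Submodule.Quotient.mk_eq_zero]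
    exact ⟨y, rfl⟩
  have quotI : ∀ (A : Submodule R N), ∀ a ∈ I, ∀ y : N ⧸ A, a • y = 0 := by
    intro A a ha y
    obtain ⟨y, rfl⟩ := Submodule.Quotient.mk_surjective _ y
    rw [← Submodule.Quotient.mk_smul, hN a ha, Submodule.Quotient.mk_zero]
  have subI : ∀ (A : Submodule R N), ∀ a ∈ I, ∀ y : A, a • y = 0 :=
    fun A a ha y => Subtype.ext (hN a ha y)
  by_cases hp : I.IsPrime
  · obtain ⟨q, φ, f, hf, hφ⟩ := exists_splitting (S := S) hinj I
    have hq : L R S (N ⧸ LinearMap.range (LinearMap.lsmul R N f)) :=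
      sub f hf _ (quotI _) (quot f)
    have hk : L R S (LinearMap.ker (LinearMap.lsmul R N f).rangeRestrict) :=
      sub f hf _ (subI _) fun x => Subtype.ext (congrArg Subtype.val (LinearMap.mem_ker.mp x.2) : f • (x : N) = 0)
    let hT : Module.IsTorsionBySet R N I := fun x a => hN a a.2 x
    let : Module (R ⧸ I) N := hT.module
    have : IsScalarTower R (R ⧸ I) N := hT.isScalarTower
    let β : (S ⧸ q) ⊗[R] N →ₗ[R] N := TensorProduct.lift
      (((LinearMap.lsmul (R ⧸ I) N).restrictScalars₁₂ R R).comp φ)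
    have hβ : ∀ x, β ((Ideal.Quotient.mk q 1) ⊗ₜ[R] x) = f • x := fun x => by
      show φ (Ideal.Quotient.mk q 1) • x = f • x
      rw [hφ]
      rfl
    have hf2 : ∀ (P : Type u) [AddCommGroup P] [Module R P], Good R S P →
        ∀ ψ : LinearMap.ker (π R P) →ₗ[R] N, ∃ h : (P →₀ R) →ₗ[R] N, ∀ k, h k.1 = f • ψ k := by
      intro P _ _ hP ψ
      obtain ⟨h, hh⟩ := L_of_module (S := S) ((S ⧸ q) ⊗[R] N) P hP
        (TensorProduct.mk R (S ⧸ q) N (Ideal.Quotient.mk q 1) ∘ₗ ψ)
      exact ⟨β ∘ₗ h, fun k => by rw [LinearMap.comp_apply, hh]; exact hβ _⟩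
    intro P _ _ hP ψ
    let A := LinearMap.range (LinearMap.lsmul R N f)
    obtain ⟨h, hh⟩ := hq P hP (A.mkQ ∘ₗ ψ)
    choose g hg using A.mkQ_surjective
    let H : (P →₀ R) →ₗ[R] N := Finsupp.linearCombination R fun x => g (h (Finsupp.single x 1))
    have hH : A.mkQ ∘ₗ H = h := Finsupp.lhom_ext fun x c => by
      have e : Finsupp.single x c = c • Finsupp.single x (1 : R) := by simp
      rw [LinearMap.comp_apply, e, map_smul, map_smul, map_smul]
      simp [H, ← Submodule.mkQ_apply, hg]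
    have hmem : ∀ k, (ψ - H ∘ₗ (LinearMap.ker (π R P)).subtype) k ∈ A := fun k => by
      rw [← Submodule.Quotient.mk_eq_zero, ← Submodule.mkQ_apply, LinearMap.sub_apply, map_sub,
        sub_eq_zero, LinearMap.comp_apply, ← LinearMap.comp_apply A.mkQ H, hH, Submodule.subtype_apply, hh]
      rfl
    obtain ⟨ψ₂, hψ₂⟩ := lift_of_L (LinearMap.lsmul R N f).rangeRestrict
      (LinearMap.surjective_rangeRestrict _) hk (good_ker hP) (LinearMap.codRestrict A _ hmem)
    obtain ⟨h', hh'⟩ := hf2 P hP ψ₂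
    refine ⟨H + h', fun k => ?_⟩
    have h2 : f • ψ₂ k = ψ k - H k.1 := congrArg Subtype.val (LinearMap.congr_fun hψ₂ k)
    rw [LinearMap.add_apply, hh', h2, add_sub_cancel]
  · obtain ⟨a, ha, b, hb, hab⟩ : ∃ a ∉ I, ∃ b ∉ I, a * b ∈ I := by
      simp only [Ideal.isPrime_iff, not_and, not_forall, not_or] at hp
      obtain ⟨a, b, hab, ha, hb⟩ := hp hI
      exact ⟨a, ha, b, hb, hab⟩
    refine L_of_ext (LinearMap.range (LinearMap.lsmul R N a))
      (sub b hb _ (subI _) fun x => ?_) (sub a ha _ (quotI _) (quot a))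
    obtain ⟨y, hy⟩ := x.2
    refine Subtype.ext ?_
    show b • (x : N) = 0
    rw [← hy, LinearMap.lsmul_apply, ← mul_smul, mul_comm]
    exact hN _ hab y

theorem projective_of_baseChange [IsNoetherianRing R] [Module.Finite R S]
    (hinj : Function.Injective (algebraMap R S)) (P : Type u) [AddCommGroup P] [Module R P]
    [Module.Flat R P] [Module.Projective S (S ⊗[R] P)] : Module.Projective R P := by
  obtain ⟨h, hh⟩ := L_all hinj ⊥ (LinearMap.ker (π R P))
    (fun a ha x => by rw [(Submodule.mem_bot R).mp ha, zero_smul]) P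
    ⟨inferInstance, inferInstance⟩ LinearMap.id
  let G := LinearMap.id - (LinearMap.ker (π R P)).subtype ∘ₗ h
  have hle : LinearMap.ker (π R P) ≤ LinearMap.ker G := fun k hk => by
    simp [G, hh ⟨k, hk⟩]
  refine Module.Projective.of_split ((LinearMap.ker (π R P)).liftQ G hle ∘ₗ
    ((π R P).quotKerEquivOfSurjective (π_surjective R P)).symm.toLinearMap) (π R P)
    (LinearMap.ext fun x => ?_)
  have h3 : ((π R P).quotKerEquivOfSurjective (π_surjective R P)).symm x =
      Submodule.Quotient.mk (Finsupp.single x 1) :=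
    (LinearEquiv.symm_apply_eq _).mpr (by simp [π])
  simp only [LinearMap.comp_apply, LinearEquiv.coe_coe, h3, Submodule.liftQ_apply, G,
    LinearMap.sub_apply, LinearMap.id_apply, map_sub]
  rw [show π R P ((LinearMap.ker (π R P)).subtype (h (Finsupp.single x 1))) = 0 from
    LinearMap.mem_ker.mp (h (Finsupp.single x 1)).2, sub_zero]
  simp [π]

end Groth.Agent.FiniteDescent3
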